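import Groth.Agent.CurveBridge.Clifford
import Groth.Agent.CurveBridge.Places
import Groth.Agent.CliffIndex.GeneralPosition
import Groth.Agent.FunFld1.Extension

/-!
The inequality of Castelnuovo and Severi for two subfields of index two.
-/

set_option linter.style.haveILetI false
set_option linter.unusedSectionVars false

open FunFld Groth.FunFld1 WithZero

namespace Groth.CastelnuovoSeveri

variable {k : Type*} [Field k]

/-- Pulling back a Riemann–Roch space. -/
theorem algebraMap_mem_L {K K' : Type*} [Field K] [Field K'] [Algebra k K] [Algebra K K'] [Algebra k K']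
    [IsScalarTower k K K'] [FiniteDimensional K K'] (hF : IsFF k K) {B : Divisor k K} {x : K}
    (hx : x ∈ L B) : algebraMap K K' x ∈ L (conorm K' B) := by
  intro Q
  rcases eq_or_ne x 0 with rfl | hx0
  · simp
  obtain ⟨P, hP⟩ := hF.exists_isOver Q
  have hQ := isOverWith_ramIdx hP
  rw [val_le_exp_iff Q ((map_ne_zero _).mpr hx0), overWith_ord hQ, hF.conorm_apply B hQ]
  have h := (val_le_exp_iff P hx0 _).mp (hx P)
  have := (ramIdx Q P).cast_nonneg (α := ℤ)
  nlinarith

variable {K : Type*} [Field K] [Algebra k K] [IsAlgClosed k]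

/-- Outside a proper subfield there is a function of degree at most one more than the genus. -/
theorem exists_small_not_mem (hK : IsFunctionField k K) (K₀ : IntermediateField k K) (h0 : K₀ ≠ ⊤) :
    ∃ A : Divisor k K, 0 ≤ A ∧ A.deg = (genus k K : ℤ) + 1 ∧ ∃ u ∈ L A, u ∉ K₀ := by
  classical
  have hF := IsFF.of_isFunctionField hK
  have hd := deg_eq_one_of_isAlgClosed hF
  haveI : Infinite (Place k K) := Groth.CurveBridge.infinite_place hF
  obtain ⟨A₀, hA0, hAd, hAl⟩ := Groth.CurveBridge.exists_effective_ell_one hK (genus k K) le_rfl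
  by_contra hno
  push Not at hno
  have hmem : ∀ Q, ∀ u ∈ L (A₀ + Finsupp.single Q 1), u ∈ K₀ := fun Q =>
    hno _ (add_nonneg hA0 (Finsupp.single_nonneg.mpr zero_le_one)) (by rw [deg_add, hAd, deg_single, hd]; norm_num)
  haveI := hF.finiteDimensional_L A₀
  have hpole : ∀ Q, Q ∉ A₀.support → ∃ u ∈ L (A₀ + Finsupp.single Q 1), Q.1 u = exp 1 := by
    intro Q hQ
    rw [Finsupp.notMem_support_iff] at hQ
    have h2 : 2 ≤ ell (A₀ + Finsupp.single Q 1) := by
      obtain ⟨C, hC⟩ := exists_isCanonical hK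
      have := riemann_roch hK hC (A₀ + Finsupp.single Q 1)
      rw [deg_add, hAd, deg_single, hd] at this
      push_cast at this
      omega
    have hlt : ell (A₀ + Finsupp.single Q 1 - Finsupp.single Q 1) < ell (A₀ + Finsupp.single Q 1) := by
      rw [add_sub_cancel_right, hAl]; omega
    obtain ⟨u, hu, huQ⟩ := Groth.CliffIndex.GenPos.exists_max hK hlt
    refine ⟨u, hu, ?_⟩
    rw [huQ, Finsupp.add_apply, hQ, Finsupp.single_eq_same, zero_add]
  obtain ⟨Q₀, hQ₀⟩ := Infinite.exists_notMem_finset A₀.support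
  obtain ⟨u₀, hu₀, hu₀Q⟩ := hpole Q₀ hQ₀
  have htr : Transcendental k u₀ := fun halg => by
    obtain ⟨c, hc⟩ := hK.2 u₀ halg
    rcases eq_or_ne c 0 with rfl | hc0
    · rw [← hc, map_zero, map_zero] at hu₀Q; exact exp_ne_zero hu₀Q.symm
    · rw [← hc, val_algebraMap Q₀ hc0, eq_comm, Groth.FunFld1.exp_eq_one] at hu₀Q; omega
  obtain ⟨hFF, hfd⟩ := IsFF.intermediateField hF K₀ (hmem Q₀ u₀ hu₀) htr
  haveI := hfd
  have hdeg : 2 ≤ Module.finrank K₀ K := by
    have h1 : Module.finrank K₀ K ≠ 1 := fun h => h0 (IntermediateField.finrank_eq_one_iff_eq_top.mp h)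
    have := Module.finrank_pos (R := K₀) (M := K)
    omega
  choose below hbelow using fun R : Place k K => hFF.exists_isOver (K' := K) R
  obtain ⟨Q, hQ⟩ := Infinite.exists_notMem_finset (A₀.support ∪
    A₀.support.biUnion fun R => (hFF.above (below R) : Finset (Place k K)))
  simp only [Finset.mem_union, Finset.mem_biUnion, not_or, not_exists, not_and] at hQ
  obtain ⟨u, hu, huQ⟩ := hpole Q hQ.1
  have hu0 : u ≠ 0 := ne_zero_of_val_eq huQ
  have huK : u ∈ K₀ := hmem Q u hu
  set p := below Q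
  have hp := hbelow Q
  have ho : Q.ord u = -1 := by rw [ord_eq_of_val_eq Q huQ]
  have he := overWith_ord (isOverWith_ramIdx hp) ⟨u, huK⟩
  change Q.ord u = _ at he
  rw [ho] at he
  have heQ : ramIdx Q p = 1 := by
    have h1 : ((ramIdx Q p : ℕ) : ℤ) * (-p.ord (⟨u, huK⟩ : K₀)) = 1 := by linarith
    have := Int.eq_one_of_mul_eq_one_right (Int.natCast_nonneg _) h1
    exact_mod_cast this
  rw [heQ, Nat.cast_one, one_mul] at he
  obtain ⟨R, hR, hRQ⟩ : ∃ R, IsOver R p ∧ R ≠ Q := by
    by_contra! hall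
    have hsum := hFF.sum_ramIdx_deg (K' := K) p
    have habove : (hFF.above p : Finset (Place k K)) = {Q} := Finset.ext fun R => by
      rw [hFF.mem_above, Finset.mem_singleton]
      exact ⟨hall R, fun h => h ▸ hp⟩
    rw [habove, Finset.sum_singleton, heQ, hd, mul_one] at hsum
    have := hFF.deg_pos p
    have := Nat.mul_le_mul hdeg this
    omega
  have heR := overWith_ord (isOverWith_ramIdx hR) ⟨u, huK⟩
  change R.ord u = _ at heR
  have := overWith_pos (isOverWith_ramIdx hR)
  have hR0 : 0 < A₀ R := by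
    have h1 := (val_le_exp_iff R hu0 _).mp (hu R)
    rw [Finsupp.add_apply, Finsupp.single_eq_of_ne hRQ, add_zero] at h1
    rw [← he, mul_neg, mul_one] at heR
    omega
  refine hQ.2 R (Finsupp.mem_support_iff.mpr (by omega)) (hFF.mem_above.mpr ?_)
  rw [over_unique (hbelow R) hR]
  exact hp

variable {K₁ K₂ : Type*} [Field K₁] [Field K₂] [Algebra k K₁] [Algebra k K₂] [Algebra K₁ K] [Algebra K₂ K]
  [IsScalarTower k K₁ K] [IsScalarTower k K₂ K]

/-- The inequality of Castelnuovo and Severi in bidegree `(2, 2)`. -/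
theorem genus_le_two_two (hK : IsFunctionField k K) (hK₁ : IsFunctionField k K₁) (hK₂ : IsFunctionField k K₂)
    (h₁ : Module.finrank K₁ K = 2) (h₂ : Module.finrank K₂ K = 2)
    (hne : (algebraMap K₁ K).range ≠ (algebraMap K₂ K).range) :
    (genus k K : ℤ) ≤ 2 * genus k K₁ + 2 * genus k K₂ + 1 := by
  have hF := IsFF.of_isFunctionField hK
  have hF₁ := IsFF.of_isFunctionField hK₁
  have hF₂ := IsFF.of_isFunctionField hK₂
  haveI : FiniteDimensional K₁ K := Module.finite_of_finrank_pos (by omega)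
  haveI : FiniteDimensional K₂ K := Module.finite_of_finrank_pos (by omega)
  let R₂ : IntermediateField k K := (IsScalarTower.toAlgHom k K₂ K).fieldRange
  let K₀ : IntermediateField k K₁ :=
    { (R₂.toSubalgebra.comap (IsScalarTower.toAlgHom k K₁ K)) with
      inv_mem' := fun x hx => by
        show algebraMap K₁ K x⁻¹ ∈ R₂
        rw [map_inv₀]; exact inv_mem hx }
  have h0 : K₀ ≠ ⊤ := by
    intro htop
    apply hne
    have hle : (algebraMap K₁ K).range ≤ (algebraMap K₂ K).range := by
      rintro _ ⟨x, rfl⟩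
      obtain ⟨y, hy⟩ := (htop ▸ IntermediateField.mem_top : x ∈ K₀)
      exact ⟨y, hy⟩
    let R₁ : IntermediateField k K := (IsScalarTower.toAlgHom k K₁ K).fieldRange
    have e₁ : Module.finrank R₁ K = 2 := by
      rw [← h₁]
      exact (Algebra.finrank_eq_of_equiv_equiv
        (AlgEquiv.ofInjectiveField (IsScalarTower.toAlgHom k K₁ K)).toRingEquiv (RingEquiv.refl K) rfl).symm
    have e₂ : Module.finrank R₂ K = 2 := by
      rw [← h₂]
      exact (Algebra.finrank_eq_of_equiv_equiv
        (AlgEquiv.ofInjectiveField (IsScalarTower.toAlgHom k K₂ K)).toRingEquiv (RingEquiv.refl K) rfl).symm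
    haveI : FiniteDimensional R₁ K := Module.finite_of_finrank_pos (by omega)
    have hR : R₁ = R₂ := IntermediateField.eq_of_le_of_finrank_eq'
      (show R₁ ≤ R₂ by rintro _ ⟨x, rfl⟩; exact hle ⟨x, rfl⟩) (by rw [e₁, e₂])
    exact SetLike.ext fun z => by
      constructor <;> intro hz
      · exact (hR.le hz : z ∈ R₂)
      · exact (hR.ge hz : z ∈ R₁)
  obtain ⟨A, hA, hAd, u, hu, huK₀⟩ := exists_small_not_mem hK₁ K₀ h0
  have hu2 : ∀ y : K₂, algebraMap K₂ K y ≠ algebraMap K₁ K u := fun y hy => huK₀ ⟨y, hy⟩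
  obtain ⟨P⟩ := hF₂.nonempty_place
  set m : ℕ := 2 * genus k K₂ + genus k K
  set B : Divisor k K₂ := Finsupp.single P (m : ℤ)
  have hBd : B.deg = m := by rw [deg_single, deg_eq_one_of_isAlgClosed hF₂]; simp
  obtain ⟨C₂, hC₂⟩ := exists_isCanonical hK₂
  have hB := riemann_roch hK₂ hC₂ B
  set D := conorm K A + conorm K B
  obtain ⟨C, hC⟩ := exists_isCanonical hK
  have hDd : D.deg = 2 * ((genus k K₁ : ℤ) + 1) + 2 * m := by
    rw [deg_add, hF₁.deg_conorm, hF₂.deg_conorm, h₁, h₂, hAd, hBd]; rfl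
  have hD := riemann_roch hK hC D
  have hD0 : ell (C - D) = 0 := hF.ell_eq_zero_of_deg_neg (by
    rw [deg_sub, deg_canonical hK hC, hDd]; simp only [m]; push_cast; omega)
  haveI := hF₂.finiteDimensional_L B
  haveI := hF.finiteDimensional_L D
  have hmul : ∀ {E : Divisor k K} {x : K}, x ∈ L E → ∀ y : K₂, y ∈ L B →
      x * algebraMap K₂ K y ∈ L (E + conorm K B) := fun {E x} hx y hy Q => by
    rw [map_mul, Finsupp.add_apply, exp_add]
    exact mul_le_mul' (hx Q) (algebraMap_mem_L hF₂ hy Q)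
  have h1A : (1 : K₁) ∈ L A := fun R => by
    rw [map_one, ← exp_zero, exp_le_exp]; exact hA R
  let Φ : (L B × L B) →ₗ[k] L D :=
    LinearMap.coprod
      (((IsScalarTower.toAlgHom k K₂ K).toLinearMap.comp (L B).subtype).codRestrict _ fun y => by
        simpa [map_one] using hmul (algebraMap_mem_L hF₁ h1A) (y : K₂) y.2)
      (((LinearMap.mulLeft k (algebraMap K₁ K u)).comp
        ((IsScalarTower.toAlgHom k K₂ K).toLinearMap.comp (L B).subtype)).codRestrict _ fun y =>
          hmul (algebraMap_mem_L hF₁ hu) (y : K₂) y.2)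
  have hΦ : Function.Injective Φ := by
    refine (injective_iff_map_eq_zero _).2 fun p hp => ?_
    have h : algebraMap K₂ K (p.1 : K₂) + algebraMap K₁ K u * algebraMap K₂ K (p.2 : K₂) = 0 :=
      congrArg (fun z : L D => (z : K)) hp
    have h2 : (p.2 : K₂) = 0 := by
      by_contra hne
      refine hu2 (-(p.1 : K₂) / p.2) ?_
      rw [map_div₀, map_neg, div_eq_iff ((map_ne_zero _).mpr hne)]
      linear_combination -h
    rw [h2, map_zero, mul_zero, add_zero, map_eq_zero] at h
    exact Prod.ext (Subtype.ext h) (Subtype.ext h2)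
  have hle := LinearMap.finrank_le_finrank_of_injective hΦ
  rw [Module.finrank_prod] at hle
  unfold ell at hB hD
  unfold ell at hD0
  omega

end Groth.CastelnuovoSeveri
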