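import Groth.Agent.CastelnuovoSeveri.Basic
import Groth.Agent.CurveBridge.FieldRange
import Groth.Agent.CurveBridge.AutField
import Groth.Agent.CurveBridge.Canonical

/-!
Two double covers of curves with the same field give isomorphic covers; the inequality of Castelnuovo
and Severi for curves.
-/

set_option linter.style.haveILetI false
set_option linter.unusedSectionVars false
set_option backward.isDefEq.respectTransparency.types false

universe u

open CategoryTheory AlgebraicGeometry
open Groth.Curves1.FrobTwist Groth.CurveBridge Groth.Chow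
open scoped Groth.CurveBridge

namespace Groth.CastelnuovoSeveri

variable {k : Type u} [Field k] {X : Scheme.{u}} [X.Over (Spec (CommRingCat.of k))] [IsIntegral X]
  {P : Scheme.{u}} [P.Over (Spec (CommRingCat.of k))] [IsIntegral P]

/-- The map of function fields is linear over the ground field. -/
theorem fieldMap_algebraMap' (f : X ⟶ P) (e : f (genericPoint X) = genericPoint P)
    (hf : f ≫ (P ↘ Spec (CommRingCat.of k)) = X ↘ Spec (CommRingCat.of k)) (c : k) :
    fieldMap f e (algebraMap k P.functionField c) = algebraMap k X.functionField c := by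
  have h := congrArg (fun m => m ≫ (P ↘ Spec (CommRingCat.of k))) (fromSpecStalk_generic_comp f e)
  simp only [Category.assoc, hf, fromSpecStalk_over, ← Spec.map_comp] at h
  exact ConcreteCategory.congr_hom (Spec.map_injective h) c

/-- Normality of a regular curve. -/
theorem isNormalScheme_of_isRegCurve (h : IsRegCurve X) : Pi1.IsNormalScheme X := fun x => by
  haveI := h.reg x
  exact ⟨Groth.Ega4Algebra1.isDomain_of_isRegularLocalRing _,
    Groth.Ega4Algebra1.isIntegrallyClosed_of_isRegularLocalRing _⟩

variable [IsProper (X ↘ Spec (CommRingCat.of k))] [IsProper (P ↘ Spec (CommRingCat.of k))]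
  {Q : Scheme.{u}} [Q.Over (Spec (CommRingCat.of k))] [IsIntegral Q] [IsProper (Q ↘ Spec (CommRingCat.of k))]

/-- Covers defining the same subfield are isomorphic. -/
theorem exists_iso_of_range_eq (hP : IsRegCurve P) (hQ : IsRegCurve Q)
    (f : X ⟶ P) (hf : f ≫ (P ↘ Spec (CommRingCat.of k)) = X ↘ Spec (CommRingCat.of k))
    (g : X ⟶ Q) (hg : g ≫ (Q ↘ Spec (CommRingCat.of k)) = X ↘ Spec (CommRingCat.of k))
    (ef : f (genericPoint X) = genericPoint P) (eg : g (genericPoint X) = genericPoint Q)
    (hr : (fieldMap f ef).range = (fieldMap g eg).range) :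
    ∃ e : P ≅ Q, e.hom ≫ (Q ↘ Spec (CommRingCat.of k)) = (P ↘ Spec (CommRingCat.of k)) ∧ f ≫ e.hom = g := by
  haveI : IsLocallyNoetherian P := LocallyOfFiniteType.isLocallyNoetherian (P ↘ Spec (CommRingCat.of k))
  haveI : IsLocallyNoetherian Q := LocallyOfFiniteType.isLocallyNoetherian (Q ↘ Spec (CommRingCat.of k))
  obtain ⟨a, ha, hfa⟩ := exists_hom_of_fieldMap (isNormalScheme_of_isRegCurve hP) hP.dim.le
    (P ↘ Spec (CommRingCat.of k)) (Q ↘ Spec (CommRingCat.of k)) f g (hf.trans hg.symm) ef eg hr.ge
  obtain ⟨b, hb, hgb⟩ := exists_hom_of_fieldMap (isNormalScheme_of_isRegCurve hQ) hQ.dim.le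
    (Q ↘ Spec (CommRingCat.of k)) (P ↘ Spec (CommRingCat.of k)) g f (hg.trans hf.symm) eg ef hr.le
  haveI : P.IsSeparated := ⟨by
    rw [← Limits.terminal.comp_from (P ↘ Spec (CommRingCat.of k))]; infer_instance⟩
  haveI : Q.IsSeparated := ⟨by
    rw [← Limits.terminal.comp_from (Q ↘ Spec (CommRingCat.of k))]; infer_instance⟩
  have hdf : IsDominant f := ⟨by
    rw [DenseRange, dense_iff_closure_eq, ← Set.univ_subset_iff, ← genericPoint_closure]
    exact closure_mono (Set.singleton_subset_iff.2 ⟨_, ef⟩)⟩
  have hdg : IsDominant g := ⟨by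
    rw [DenseRange, dense_iff_closure_eq, ← Set.univ_subset_iff, ← genericPoint_closure]
    exact closure_mono (Set.singleton_subset_iff.2 ⟨_, eg⟩)⟩
  exact ⟨⟨a, b,
    ext_of_isDominant f (by rw [← Category.assoc, hfa, hgb, Category.comp_id]),
    ext_of_isDominant g (by rw [← Category.assoc, hgb, hfa, Category.comp_id])⟩, ha, hfa⟩

variable [IsAlgClosed k]

/-- The inequality of Castelnuovo and Severi for two double covers which are not isomorphic. -/
theorem genus_le_of_two_doubleCovers (h : IsRegCurve X) (hP : IsRegCurve P) (hQ : IsRegCurve Q)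
    (f : X ⟶ P) (hf : f ≫ (P ↘ Spec (CommRingCat.of k)) = X ↘ Spec (CommRingCat.of k))
    [IsFinite f] [Flat f] (hr : ∀ y : P, Scheme.Hom.finrank f y = 2)
    (g : X ⟶ Q) (hg : g ≫ (Q ↘ Spec (CommRingCat.of k)) = X ↘ Spec (CommRingCat.of k))
    [IsFinite g] [Flat g] (hs : ∀ y : Q, Scheme.Hom.finrank g y = 2)
    (hne : ¬ ∃ e : P ≅ Q, e.hom ≫ (Q ↘ Spec (CommRingCat.of k)) = (P ↘ Spec (CommRingCat.of k)) ∧ f ≫ e.hom = g) :
    (Curv2.genus k X : ℤ) ≤ 2 * Curv2.genus k P + 2 * Curv2.genus k Q + 1 := by
  have hK := Groth.CurveBridge.isFunctionField (k := k) (X := X) h.dim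
  have hKP := Groth.CurveBridge.isFunctionField (k := k) (X := P) hP.dim
  have hKQ := Groth.CurveBridge.isFunctionField (k := k) (X := Q) hQ.dim
  have ef := FieldRange.map_generic_of_flat f
  have eg := FieldRange.map_generic_of_flat g
  letI : Algebra P.functionField X.functionField := (fieldMap f ef).toAlgebra
  letI : Algebra Q.functionField X.functionField := (fieldMap g eg).toAlgebra
  haveI : IsScalarTower k P.functionField X.functionField :=
    IsScalarTower.of_algebraMap_eq fun c => (fieldMap_algebraMap' f ef hf c).symm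
  haveI : IsScalarTower k Q.functionField X.functionField :=
    IsScalarTower.of_algebraMap_eq fun c => (fieldMap_algebraMap' g eg hg c).symm
  have h₁ : Module.finrank P.functionField X.functionField = 2 := by
    rw [← FieldRange.finrank_fieldRange f hr ef]
    refine Algebra.finrank_eq_of_equiv_equiv (RingEquiv.ofBijective (fieldMap f ef).rangeRestrictField
      (fieldMap f ef).rangeRestrictField_bijective) (RingEquiv.refl _) ?_
    rfl
  have h₂ : Module.finrank Q.functionField X.functionField = 2 := by
    rw [← FieldRange.finrank_fieldRange g hs eg]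
    refine Algebra.finrank_eq_of_equiv_equiv (RingEquiv.ofBijective (fieldMap g eg).rangeRestrictField
      (fieldMap g eg).rangeRestrictField_bijective) (RingEquiv.refl _) ?_
    rfl
  rw [genus_eq h hK, genus_eq hP hKP, genus_eq hQ hKQ]
  exact genus_le_two_two hK hKP hKQ h₁ h₂ fun e => hne (exists_iso_of_range_eq hP hQ f hf g hg ef eg e)

end Groth.CastelnuovoSeveri
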