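import Groth.Agent.CastelnuovoSeveri.Basic

/-!
When the Castelnuovo–Severi bound is attained, both quotients have pencils of degree two.
-/

set_option linter.style.haveILetI false
set_option linter.unusedSectionVars false

open FunFld Groth.FunFld1 WithZero

namespace Groth.CastelnuovoSeveri

variable {k : Type*} [Field k] {K : Type*} [Field K] [Algebra k K] [IsAlgClosed k]

variable {K₁ K₂ : Type*} [Field K₁] [Field K₂] [Algebra k K₁] [Algebra k K₂] [Algebra K₁ K] [Algebra K₂ K]
  [IsScalarTower k K₁ K] [IsScalarTower k K₂ K]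

/-- When the bound is attained, the second subfield has a pencil of degree two. -/
theorem exists_g12_of_genus_eq (hK : IsFunctionField k K) (hK₁ : IsFunctionField k K₁) (hK₂ : IsFunctionField k K₂)
    (h₁ : Module.finrank K₁ K = 2) (h₂ : Module.finrank K₂ K = 2)
    (hne : (algebraMap K₁ K).range ≠ (algebraMap K₂ K).range)
    (heq : (genus k K : ℤ) = 2 * genus k K₁ + 2 * genus k K₂ + 1) :
    ∃ B : Divisor k K₂, B.deg = 2 ∧ 2 ≤ ell B := by
  classical
  have hF := IsFF.of_isFunctionField hK
  have hF₁ := IsFF.of_isFunctionField hK₁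
  have hF₂ := IsFF.of_isFunctionField hK₂
  haveI : FiniteDimensional K₁ K := Module.finite_of_finrank_pos (by omega)
  haveI : FiniteDimensional K₂ K := Module.finite_of_finrank_pos (by omega)
  let R₂ : IntermediateField k K := (IsScalarTower.toAlgHom k K₂ K).fieldRange
  let K₀ : IntermediateField k K₁ :=
    { (R₂.toSubalgebra.comap (IsScalarTower.toAlgHom k K₁ K)) with
      inv_mem' := fun x hx => by
        show algebraMap K₁ K x⁻¹ ∈ R₂
        rw [map_inv₀]; exact inv_mem hx }
  have h0 : K₀ ≠ ⊤ := by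
    intro htop
    apply hne
    have hle : (algebraMap K₁ K).range ≤ (algebraMap K₂ K).range := by
      rintro _ ⟨x, rfl⟩
      obtain ⟨y, hy⟩ := (htop ▸ IntermediateField.mem_top : x ∈ K₀)
      exact ⟨y, hy⟩
    let R₁ : IntermediateField k K := (IsScalarTower.toAlgHom k K₁ K).fieldRange
    have e₁ : Module.finrank R₁ K = 2 := by
      rw [← h₁]
      exact (Algebra.finrank_eq_of_equiv_equiv
        (AlgEquiv.ofInjectiveField (IsScalarTower.toAlgHom k K₁ K)).toRingEquiv (RingEquiv.refl K) rfl).symm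
    have e₂ : Module.finrank R₂ K = 2 := by
      rw [← h₂]
      exact (Algebra.finrank_eq_of_equiv_equiv
        (AlgEquiv.ofInjectiveField (IsScalarTower.toAlgHom k K₂ K)).toRingEquiv (RingEquiv.refl K) rfl).symm
    haveI : FiniteDimensional R₁ K := Module.finite_of_finrank_pos (by omega)
    have hR : R₁ = R₂ := IntermediateField.eq_of_le_of_finrank_eq'
      (show R₁ ≤ R₂ by rintro _ ⟨x, rfl⟩; exact hle ⟨x, rfl⟩) (by rw [e₁, e₂])
    exact SetLike.ext fun z => by
      constructor <;> intro hz
      · exact (hR.le hz : z ∈ R₂)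
      · exact (hR.ge hz : z ∈ R₁)
  obtain ⟨A, hA, hAd, u, hu, huK₀⟩ := exists_small_not_mem hK₁ K₀ h0
  have hu2 : ∀ y : K₂, algebraMap K₂ K y ≠ algebraMap K₁ K u := fun y hy => huK₀ ⟨y, hy⟩
  -- a divisor of degree two below a point of the first curve
  obtain ⟨p⟩ := hF₁.nonempty_place
  choose below hbelow using fun R : Place k K => hF₂.exists_isOver (K' := K) R
  set S : Finset (Place k K) := hF₁.above p
  set B₀ : Divisor k K₂ := ∑ R ∈ S, Finsupp.single (below R) (ramIdx R p : ℤ) with hB₀
  have hd := deg_eq_one_of_isAlgClosed hF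
  have hd₂ := deg_eq_one_of_isAlgClosed hF₂
  have hB₀d : B₀.deg = 2 := by
    have key : ∀ s : Finset (Place k K), Divisor.deg (∑ R ∈ s, Finsupp.single (below R) (ramIdx R p : ℤ)) =
        ((∑ R ∈ s, ramIdx R p * R.deg : ℕ) : ℤ) := by
      intro s
      induction s using Finset.induction with
      | empty => simp [Groth.FunFld1.deg_zero]
      | insert R s hR ih =>
        rw [Finset.sum_insert hR, Finset.sum_insert hR, deg_add, ih, deg_single, hd, hd₂]
        push_cast
        ring
    rw [hB₀, key, hF₁.sum_ramIdx_deg, h₁, deg_eq_one_of_isAlgClosed hF₁]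
    rfl
  have hB₀0 : 0 ≤ B₀ := Finset.sum_nonneg fun R _ => Finsupp.single_nonneg.mpr (by positivity)
  have hcon : conorm K (A + Finsupp.single p 1) ≤ conorm K A + conorm K B₀ := fun R => by
    obtain ⟨r, hr⟩ := hF₁.exists_isOver (K' := K) R
    rw [Finsupp.add_apply, hF₁.conorm_apply _ (isOverWith_ramIdx hr), hF₁.conorm_apply A (isOverWith_ramIdx hr),
      hF₂.conorm_apply B₀ (isOverWith_ramIdx (hbelow R)), Finsupp.add_apply]
    have he2 : (1 : ℤ) ≤ ramIdx R (below R) := by
      exact_mod_cast overWith_pos (isOverWith_ramIdx (hbelow R))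
    have hpos := hB₀0 (below R)
    by_cases hrp : r = p
    · subst hrp
      have hRS : R ∈ S := hF₁.mem_above.mpr hr
      have h1 : (ramIdx R r : ℤ) ≤ B₀ (below R) := by
        rw [hB₀, Finsupp.coe_finsetSum, Finset.sum_apply]
        refine le_trans ?_ (Finset.single_le_sum (fun R' _ => ?_) hRS)
        · rw [Finsupp.single_eq_same]
        · exact Finsupp.single_nonneg.mpr (by positivity) _
      rw [Finsupp.single_eq_same]
      simp only [Finsupp.coe_zero, Pi.zero_apply] at hpos
      nlinarith [mul_le_mul_of_nonneg_right he2 hpos]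
    · rw [Finsupp.single_eq_of_ne hrp]
      simp only [Finsupp.coe_zero, Pi.zero_apply] at hpos
      nlinarith
  -- a third function on the first curve
  obtain ⟨u', hu', hu'span⟩ : ∃ u' ∈ L (A + Finsupp.single p 1), u' ∉ Submodule.span k ({1, u} : Set K₁) := by
    by_contra hno
    push Not at hno
    obtain ⟨C₁, hC₁⟩ := exists_isCanonical hK₁
    have hr := riemann_roch hK₁ hC₁ (A + Finsupp.single p 1)
    rw [deg_add, hAd, deg_single, deg_eq_one_of_isAlgClosed hF₁] at hr
    have hspan : Module.finrank k (Submodule.span k ({1, u} : Set K₁)) ≤ 2 := by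
      have h2 := finrank_span_finset_le_card (R := k) ({1, u} : Finset K₁)
      rw [Finset.coe_insert, Finset.coe_singleton] at h2
      exact h2.trans Finset.card_le_two
    haveI : FiniteDimensional k (Submodule.span k ({1, u} : Set K₁)) :=
      FiniteDimensional.span_of_finite k (Set.toFinite _)
    have hmono := Submodule.finrank_mono (s := L (A + Finsupp.single p 1)) hno
    unfold ell at hr
    push_cast at hr
    omega
  have hu'B : algebraMap K₁ K u' ∈ L (conorm K A + conorm K B₀) :=
    L_mono hcon (algebraMap_mem_L hF₁ hu')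
  haveI : Infinite (Place k K₂) := Groth.CurveBridge.infinite_place hF₂
  obtain ⟨P₁⟩ := hF₂.nonempty_place
  obtain ⟨P₂, hP⟩ := Infinite.exists_notMem_finset ({P₁} : Finset (Place k K₂))
  rw [Finset.mem_singleton] at hP
  have decomp : ∀ P : Place k K₂, ∃ a b : K₂,
      a ∈ L (B₀ + Finsupp.single P ((2 * genus k K₂ + genus k K : ℕ) : ℤ)) ∧
      b ∈ L (B₀ + Finsupp.single P ((2 * genus k K₂ + genus k K : ℕ) : ℤ)) ∧
      algebraMap K₁ K u' = algebraMap K₂ K a + algebraMap K₁ K u * algebraMap K₂ K b := by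
    intro P
    set m : ℕ := 2 * genus k K₂ + genus k K
    set B : Divisor k K₂ := B₀ + Finsupp.single P (m : ℤ)
    have hBd : B.deg = 2 + m := by rw [deg_add, hB₀d, deg_single, hd₂]; simp
    obtain ⟨C₂, hC₂⟩ := exists_isCanonical hK₂
    have hB := riemann_roch hK₂ hC₂ B
    set D := conorm K A + conorm K B
    obtain ⟨C, hC⟩ := exists_isCanonical hK
    have hDd : D.deg = 2 * ((genus k K₁ : ℤ) + 1) + 2 * (2 + m) := by
      rw [deg_add, hF₁.deg_conorm, hF₂.deg_conorm, h₁, h₂, hAd, hBd]; rfl
    have hD := riemann_roch hK hC D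
    have hD0 : ell (C - D) = 0 := hF.ell_eq_zero_of_deg_neg (by
      rw [deg_sub, deg_canonical hK hC, hDd]; simp only [m]; push_cast; omega)
    haveI := hF₂.finiteDimensional_L B
    haveI := hF.finiteDimensional_L D
    have hmul : ∀ {E : Divisor k K} {x : K}, x ∈ L E → ∀ y : K₂, y ∈ L B →
        x * algebraMap K₂ K y ∈ L (E + conorm K B) := fun {E x} hx y hy Q => by
      rw [map_mul, Finsupp.add_apply, exp_add]
      exact mul_le_mul' (hx Q) (algebraMap_mem_L hF₂ hy Q)
    have h1A : (1 : K₁) ∈ L A := fun R => by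
      rw [map_one, ← exp_zero, exp_le_exp]; exact hA R
    let Φ : (L B × L B) →ₗ[k] L D :=
      LinearMap.coprod
        (((IsScalarTower.toAlgHom k K₂ K).toLinearMap.comp (L B).subtype).codRestrict _ fun y => by
          simpa [map_one] using hmul (algebraMap_mem_L hF₁ h1A) (y : K₂) y.2)
        (((LinearMap.mulLeft k (algebraMap K₁ K u)).comp
          ((IsScalarTower.toAlgHom k K₂ K).toLinearMap.comp (L B).subtype)).codRestrict _ fun y =>
            hmul (algebraMap_mem_L hF₁ hu) (y : K₂) y.2)
    have hΦ : Function.Injective Φ := by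
      refine (injective_iff_map_eq_zero _).2 fun p hp => ?_
      have h : algebraMap K₂ K (p.1 : K₂) + algebraMap K₁ K u * algebraMap K₂ K (p.2 : K₂) = 0 :=
        congrArg (fun z : L D => (z : K)) hp
      have h2 : (p.2 : K₂) = 0 := by
        by_contra hne
        refine hu2 (-(p.1 : K₂) / p.2) ?_
        rw [map_div₀, map_neg, div_eq_iff ((map_ne_zero _).mpr hne)]
        linear_combination -h
      rw [h2, map_zero, mul_zero, add_zero, map_eq_zero] at h
      exact Prod.ext (Subtype.ext h) (Subtype.ext h2)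
    have hrange : LinearMap.range Φ = ⊤ := Submodule.eq_top_of_finrank_eq (by
      rw [LinearMap.finrank_range_of_inj hΦ, Module.finrank_prod]
      unfold ell at hB hD
      unfold ell at hD0
      have hB0 : Module.finrank k (L (C₂ - B)) = 0 := hF₂.ell_eq_zero_of_deg_neg (by
        rw [deg_sub, deg_canonical hK₂ hC₂, hBd]; simp only [m]; push_cast; omega)
      omega)
    have hu'D : algebraMap K₁ K u' ∈ L D := L_mono (add_le_add le_rfl (fun R => by
      obtain ⟨r, hr⟩ := hF₂.exists_isOver (K' := K) R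
      rw [hF₂.conorm_apply _ (isOverWith_ramIdx hr), hF₂.conorm_apply B (isOverWith_ramIdx hr)]
      exact mul_le_mul_of_nonneg_left
        ((le_add_of_nonneg_right (Finsupp.single_nonneg.mpr (by positivity)) : B₀ ≤ B) r) (by positivity))) hu'B
    obtain ⟨q, hq⟩ := LinearMap.range_eq_top.mp hrange ⟨_, hu'D⟩
    exact ⟨q.1, q.2, q.1.2, q.2.2, (congrArg (fun z : L D => (z : K)) hq).symm⟩
  obtain ⟨a, b, ha, hb, hab⟩ := decomp P₁
  obtain ⟨a', b', ha', hb', hab'⟩ := decomp P₂
  have hbb : b = b' := by
    by_contra hne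
    refine hu2 (-(a - a') / (b - b')) ?_
    rw [map_div₀, map_neg, div_eq_iff ((map_ne_zero _).mpr (sub_ne_zero.mpr hne)), map_sub, map_sub]
    linear_combination hab - hab'
  have haa : a = a' := by
    rw [hbb] at hab
    exact (algebraMap K₂ K).injective (add_right_cancel (hab.symm.trans hab'))
  have hLB : ∀ x, x ∈ L (B₀ + Finsupp.single P₁ ((2 * genus k K₂ + genus k K : ℕ) : ℤ)) →
      x ∈ L (B₀ + Finsupp.single P₂ ((2 * genus k K₂ + genus k K : ℕ) : ℤ)) → x ∈ L B₀ := fun x h1 h2 R => by
    by_cases hR : R = P₁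
    · subst hR
      have := h2 R
      rwa [Finsupp.add_apply, Finsupp.single_eq_of_ne (Ne.symm hP), add_zero] at this
    · have := h1 R
      rwa [Finsupp.add_apply, Finsupp.single_eq_of_ne hR, add_zero] at this
  refine ⟨B₀, hB₀d, ?_⟩
  by_contra hlt
  apply hu'span
  haveI := hF₂.finiteDimensional_L B₀
  have h1B : (1 : K₂) ∈ L B₀ := fun R => by rw [map_one, ← exp_zero, exp_le_exp]; exact hB₀0 R
  have hconst : ∀ x ∈ L B₀, ∃ c : k, x = algebraMap k K₂ c := fun x hx => by
    have hl : ell B₀ = 1 := by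
      have h1 : 1 ≤ ell B₀ := by
        rw [ell]; exact Submodule.one_le_finrank_iff.mpr fun h => one_ne_zero ((Submodule.eq_bot_iff _).mp h 1 h1B)
      omega
    obtain ⟨c, hc⟩ := exists_smul_eq_of_finrank_eq_one (K := k) (V := L B₀) hl
      (x := ⟨1, h1B⟩) (fun h => one_ne_zero (congrArg Subtype.val h)) ⟨x, hx⟩
    exact ⟨c, ((Algebra.algebraMap_eq_smul_one c).trans (congrArg Subtype.val hc)).symm⟩
  obtain ⟨ca, hca⟩ := hconst a (hLB a ha (haa ▸ ha'))
  obtain ⟨cb, hcb⟩ := hconst b (hLB b hb (hbb ▸ hb'))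
  have : u' = algebraMap k K₁ ca + cb • u := (algebraMap K₁ K).injective (by
    rw [hab, hca, hcb, map_add, Algebra.smul_def, map_mul, ← IsScalarTower.algebraMap_apply,
      ← IsScalarTower.algebraMap_apply, ← IsScalarTower.algebraMap_apply, ← IsScalarTower.algebraMap_apply]
    ring)
  rw [this, Algebra.algebraMap_eq_smul_one]
  exact add_mem (Submodule.smul_mem _ _ (Submodule.subset_span (by simp)))
    (Submodule.smul_mem _ _ (Submodule.subset_span (by simp)))

end Groth.CastelnuovoSeveri
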