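import Groth.Agent.CastelnuovoSeveri.Curves
import Groth.Agent.CastelnuovoSeveri.Hyperelliptic
import Groth.Agent.CurveBridge.FromDivisor

/-!
Double covers attaining the Castelnuovo–Severi bound have hyperelliptic targets.
-/

set_option linter.style.haveILetI false
set_option linter.unusedSectionVars false
set_option backward.isDefEq.respectTransparency.types false

universe u

open CategoryTheory AlgebraicGeometry
open Groth.Curves1.FrobTwist Groth.CurveBridge Groth.Chow
open scoped Groth.CurveBridge

namespace Groth.CastelnuovoSeveri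

variable {k : Type u} [Field k] [IsAlgClosed k] {X : Scheme.{u}} [X.Over (Spec (CommRingCat.of k))]
  [IsIntegral X] [IsProper (X ↘ Spec (CommRingCat.of k))]
  {P : Scheme.{u}} [P.Over (Spec (CommRingCat.of k))] [IsIntegral P] [IsProper (P ↘ Spec (CommRingCat.of k))]
  {Q : Scheme.{u}} [Q.Over (Spec (CommRingCat.of k))] [IsIntegral Q] [IsProper (Q ↘ Spec (CommRingCat.of k))]

/-- The target of the second cover has an invertible module of degree two with two sections. -/
theorem exists_g12_module (h : IsRegCurve X) (hP : IsRegCurve P) (hQ : IsRegCurve Q)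
    (f : X ⟶ P) (hf : f ≫ (P ↘ Spec (CommRingCat.of k)) = X ↘ Spec (CommRingCat.of k))
    [IsFinite f] [Flat f] (hr : ∀ y : P, Scheme.Hom.finrank f y = 2)
    (g : X ⟶ Q) (hg : g ≫ (Q ↘ Spec (CommRingCat.of k)) = X ↘ Spec (CommRingCat.of k))
    [IsFinite g] [Flat g] (hs : ∀ y : Q, Scheme.Hom.finrank g y = 2)
    (hne : ¬ ∃ e : P ≅ Q, e.hom ≫ (Q ↘ Spec (CommRingCat.of k)) = (P ↘ Spec (CommRingCat.of k)) ∧ f ≫ e.hom = g)
    (heq : (Curv2.genus k X : ℤ) = 2 * Curv2.genus k P + 2 * Curv2.genus k Q + 1) :
    ∃ M : Q.Modules, PicF.IsInvertible M ∧ Curv2.deg k Q M 1 = 2 ∧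
      2 ≤ Module.finrank k (Coh.HH Q M 0) := by
  have hK := Groth.CurveBridge.isFunctionField (k := k) (X := X) h.dim
  have hKP := Groth.CurveBridge.isFunctionField (k := k) (X := P) hP.dim
  have hKQ := Groth.CurveBridge.isFunctionField (k := k) (X := Q) hQ.dim
  rw [genus_eq h hK, genus_eq hP hKP, genus_eq hQ hKQ] at heq
  have ef := FieldRange.map_generic_of_flat f
  have eg := FieldRange.map_generic_of_flat g
  letI : Algebra P.functionField X.functionField := (fieldMap f ef).toAlgebra
  letI : Algebra Q.functionField X.functionField := (fieldMap g eg).toAlgebra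
  haveI : IsScalarTower k P.functionField X.functionField :=
    IsScalarTower.of_algebraMap_eq fun c => (fieldMap_algebraMap' f ef hf c).symm
  haveI : IsScalarTower k Q.functionField X.functionField :=
    IsScalarTower.of_algebraMap_eq fun c => (fieldMap_algebraMap' g eg hg c).symm
  have h₁ : Module.finrank P.functionField X.functionField = 2 := by
    rw [← FieldRange.finrank_fieldRange f hr ef]
    exact Algebra.finrank_eq_of_equiv_equiv (RingEquiv.ofBijective (fieldMap f ef).rangeRestrictField
      (fieldMap f ef).rangeRestrictField_bijective) (RingEquiv.refl _) rfl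
  have h₂ : Module.finrank Q.functionField X.functionField = 2 := by
    rw [← FieldRange.finrank_fieldRange g hs eg]
    exact Algebra.finrank_eq_of_equiv_equiv (RingEquiv.ofBijective (fieldMap g eg).rangeRestrictField
      (fieldMap g eg).rangeRestrictField_bijective) (RingEquiv.refl _) rfl
  obtain ⟨B, hBd, hBl⟩ := exists_g12_of_genus_eq hK hKP hKQ h₁ h₂
    (fun e => hne (exists_iso_of_range_eq hP hQ f hf g hg ef eg e)) heq
  obtain ⟨M, hM, h0, hd, -⟩ := exists_invertible_numerics (k := k) hQ hKQ B
  exact ⟨M, hM, hd.trans hBd, by rw [h0]; exact hBl⟩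

end Groth.CastelnuovoSeveri
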