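import Groth.Agent.CastelnuovoSeveri.Basic

/-!
The inequality of Castelnuovo and Severi is strict when the map to the product is not an immersion.
-/

set_option linter.style.haveILetI false
set_option linter.unusedSectionVars false

open FunFld Groth.FunFld1 WithZero

namespace Groth.CastelnuovoSeveri

variable {k : Type*} [Field k] {K : Type*} [Field K] [Algebra k K] [IsAlgClosed k]

/-- A function regular below two glued places takes the same value at both. -/
theorem mem_glued {K₁ : Type*} [Field K₁] [Algebra k K₁] [Algebra K₁ K] [IsScalarTower k K₁ K]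
    (hK₁ : IsFunctionField k K₁) {p₁ : Place k K₁} {P₀ Q₀ : Place k K} {δ : Divisor k K}
    (hg₁ : ∀ R, R = P₀ ∨ R = Q₀ → ∃ e : ℕ, IsOverWith R p₁ e ∧ δ R ≤ e) {w : K₁} (hw : p₁.1 w ≤ 1) :
    algebraMap K₁ K w ∈ {y : K | ∃ c : k, ∀ R, R = P₀ ∨ R = Q₀ → R.1 (y - algebraMap k K c) ≤ exp (-δ R)} := by
  obtain ⟨c, hc⟩ := exists_const_sub_lt_one
    (deg_eq_one_of_isAlgClosed (IsFF.of_isFunctionField hK₁) p₁) hw
  refine ⟨c, fun R hR => ?_⟩
  obtain ⟨e, he, hδe⟩ := hg₁ R hR
  rw [IsScalarTower.algebraMap_apply k K₁ K c, ← map_sub]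
  rcases eq_or_ne (w - algebraMap k K₁ c) 0 with h0 | h0
  · rw [h0, map_zero, map_zero]; exact zero_le
  rw [val_le_exp_iff R ((map_ne_zero _).mpr h0), overWith_ord he]
  rw [val_eq_exp_neg_ord p₁ h0, exp_lt_one] at hc
  nlinarith [overWith_pos he]

variable {K₁ K₂ : Type*} [Field K₁] [Field K₂] [Algebra k K₁] [Algebra k K₂] [Algebra K₁ K] [Algebra K₂ K]
  [IsScalarTower k K₁ K] [IsScalarTower k K₂ K]

/-- The inequality is strict if two places are glued (or a place is ramified) for both subfields. -/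
theorem genus_le_two_two_of_glued (hK : IsFunctionField k K) (hK₁ : IsFunctionField k K₁) (hK₂ : IsFunctionField k K₂)
    (h₁ : Module.finrank K₁ K = 2) (h₂ : Module.finrank K₂ K = 2)
    (hne : (algebraMap K₁ K).range ≠ (algebraMap K₂ K).range) (P₀ Q₀ : Place k K) (p₁ : Place k K₁)
    (p₂ : Place k K₂)
    (hg₁ : ∀ R, R = P₀ ∨ R = Q₀ → ∃ e : ℕ, IsOverWith R p₁ e ∧
      (Finsupp.single P₀ (1 : ℤ) + Finsupp.single Q₀ 1 : Divisor k K) R ≤ e)
    (hg₂ : ∀ R, R = P₀ ∨ R = Q₀ → ∃ e : ℕ, IsOverWith R p₂ e ∧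
      (Finsupp.single P₀ (1 : ℤ) + Finsupp.single Q₀ 1 : Divisor k K) R ≤ e) :
    (genus k K : ℤ) ≤ 2 * genus k K₁ + 2 * genus k K₂ := by
  have hF := IsFF.of_isFunctionField hK
  have hF₁ := IsFF.of_isFunctionField hK₁
  have hF₂ := IsFF.of_isFunctionField hK₂
  haveI : FiniteDimensional K₁ K := Module.finite_of_finrank_pos (by omega)
  haveI : FiniteDimensional K₂ K := Module.finite_of_finrank_pos (by omega)
  let R₂ : IntermediateField k K := (IsScalarTower.toAlgHom k K₂ K).fieldRange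
  let K₀ : IntermediateField k K₁ :=
    { (R₂.toSubalgebra.comap (IsScalarTower.toAlgHom k K₁ K)) with
      inv_mem' := fun x hx => by
        show algebraMap K₁ K x⁻¹ ∈ R₂
        rw [map_inv₀]; exact inv_mem hx }
  have h0 : K₀ ≠ ⊤ := by
    intro htop
    apply hne
    have hle : (algebraMap K₁ K).range ≤ (algebraMap K₂ K).range := by
      rintro _ ⟨x, rfl⟩
      obtain ⟨y, hy⟩ := (htop ▸ IntermediateField.mem_top : x ∈ K₀)
      exact ⟨y, hy⟩
    let R₁ : IntermediateField k K := (IsScalarTower.toAlgHom k K₁ K).fieldRange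
    have e₁ : Module.finrank R₁ K = 2 := by
      rw [← h₁]
      exact (Algebra.finrank_eq_of_equiv_equiv
        (AlgEquiv.ofInjectiveField (IsScalarTower.toAlgHom k K₁ K)).toRingEquiv (RingEquiv.refl K) rfl).symm
    have e₂ : Module.finrank R₂ K = 2 := by
      rw [← h₂]
      exact (Algebra.finrank_eq_of_equiv_equiv
        (AlgEquiv.ofInjectiveField (IsScalarTower.toAlgHom k K₂ K)).toRingEquiv (RingEquiv.refl K) rfl).symm
    haveI : FiniteDimensional R₁ K := Module.finite_of_finrank_pos (by omega)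
    have hR : R₁ = R₂ := IntermediateField.eq_of_le_of_finrank_eq'
      (show R₁ ≤ R₂ by rintro _ ⟨x, rfl⟩; exact hle ⟨x, rfl⟩) (by rw [e₁, e₂])
    exact SetLike.ext fun z => by
      constructor <;> intro hz
      · exact (hR.le hz : z ∈ R₂)
      · exact (hR.ge hz : z ∈ R₁)
  obtain ⟨A₀, hA, hA₀d, u, hu, huK₀⟩ := exists_small_not_mem hK₁ K₀ h0
  obtain ⟨z, hz⟩ := exists_val_eq_exp p₁ (A₀ p₁)
  have hz0 : z ≠ 0 := ne_zero_of_val_eq hz
  set A := A₀ + FunFld.div k z
  have hAd : A.deg = (genus k K₁ : ℤ) + 1 := by rw [deg_add, hF₁.deg_div, add_zero, hA₀d]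
  have hAp : A p₁ = 0 := by
    rw [Finsupp.add_apply, hF₁.div_apply, ord_eq_of_val_eq p₁ hz]
    omega
  have hshift : ∀ {w : K₁}, w ∈ L A₀ → w / z ∈ L A := fun {w} hw R => by
    rw [map_div₀, val_eq_exp_neg_ord R hz0, Finsupp.add_apply, hF₁.div_apply, exp_add, exp_neg,
      div_inv_eq_mul]
    exact mul_le_mul' (hw R) le_rfl
  have hu2 : ∀ y : K₂, algebraMap K₂ K y ≠ algebraMap K₁ K u := fun y hy => huK₀ ⟨y, hy⟩
  haveI : Infinite (Place k K₂) := Groth.CurveBridge.infinite_place hF₂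
  obtain ⟨P, hP⟩ := Infinite.exists_notMem_finset ({p₂} : Finset (Place k K₂))
  rw [Finset.mem_singleton] at hP
  set m : ℕ := 2 * genus k K₂ + genus k K + 2
  set B : Divisor k K₂ := Finsupp.single P (m : ℤ)
  have hBd : B.deg = m := by rw [deg_single, deg_eq_one_of_isAlgClosed hF₂]; simp
  obtain ⟨C₂, hC₂⟩ := exists_isCanonical hK₂
  have hB := riemann_roch hK₂ hC₂ B
  set D := conorm K A + conorm K B
  obtain ⟨C, hC⟩ := exists_isCanonical hK
  have hDd : D.deg = 2 * ((genus k K₁ : ℤ) + 1) + 2 * m := by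
    rw [deg_add, hF₁.deg_conorm, hF₂.deg_conorm, h₁, h₂, hAd, hBd]; rfl
  have hD := riemann_roch hK hC D
  have hD0 : ell (C - D) = 0 := hF.ell_eq_zero_of_deg_neg (by
    rw [deg_sub, deg_canonical hK hC, hDd]; simp only [m]; push_cast; omega)
  haveI := hF₂.finiteDimensional_L B
  haveI := hF.finiteDimensional_L D
  have hmul : ∀ {E : Divisor k K} {x : K}, x ∈ L E → ∀ y : K₂, y ∈ L B →
      x * algebraMap K₂ K y ∈ L (E + conorm K B) := fun {E x} hx y hy Q => by
    rw [map_mul, Finsupp.add_apply, exp_add]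
    exact mul_le_mul' (hx Q) (algebraMap_mem_L hF₂ hy Q)
  have h1A : (1 : K₁) / z ∈ L A := hshift fun R => by
    rw [map_one, ← exp_zero, exp_le_exp]; exact hA R
  let Φ : (L B × L B) →ₗ[k] L D :=
    LinearMap.coprod
      (((LinearMap.mulLeft k (algebraMap K₁ K (1 / z))).comp
        ((IsScalarTower.toAlgHom k K₂ K).toLinearMap.comp (L B).subtype)).codRestrict _ fun y =>
          hmul (algebraMap_mem_L hF₁ h1A) (y : K₂) y.2)
      (((LinearMap.mulLeft k (algebraMap K₁ K (u / z))).comp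
        ((IsScalarTower.toAlgHom k K₂ K).toLinearMap.comp (L B).subtype)).codRestrict _ fun y =>
          hmul (algebraMap_mem_L hF₁ (hshift hu)) (y : K₂) y.2)
  have hΦ : Function.Injective Φ := by
    refine (injective_iff_map_eq_zero _).2 fun p hp => ?_
    have h : algebraMap K₁ K (1 / z) * algebraMap K₂ K (p.1 : K₂) +
        algebraMap K₁ K (u / z) * algebraMap K₂ K (p.2 : K₂) = 0 :=
      congrArg (fun z : L D => (z : K)) hp
    rw [map_div₀, map_div₀, map_one] at h
    have hz' : algebraMap K₁ K z ≠ 0 := (map_ne_zero _).mpr hz0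
    field_simp at h
    have h2 : (p.2 : K₂) = 0 := by
      by_contra hne
      refine hu2 (-(p.1 : K₂) / p.2) ?_
      rw [map_div₀, map_neg, div_eq_iff ((map_ne_zero _).mpr hne)]
      linear_combination -h
    simp only [h2, map_zero, mul_zero, add_zero, map_eq_zero] at h
    exact Prod.ext (Subtype.ext h) (Subtype.ext h2)
  -- the image lies in the functions with equal values at the glued places
  set δ : Divisor k K := Finsupp.single P₀ 1 + Finsupp.single Q₀ 1
  have hδ : ∀ R, R = P₀ ∨ R = Q₀ → 1 ≤ δ R := fun R hR => by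
    have hn : ∀ (S : Place k K), (0 : ℤ) ≤ Finsupp.single S (1 : ℤ) R := fun S =>
      Finsupp.single_nonneg.mpr zero_le_one R
    rcases hR with h | h <;>
    · have hP0 := hn P₀; have hQ0 := hn Q₀
      subst h
      simp only [δ, Finsupp.add_apply, Finsupp.single_eq_same] at hP0 hQ0 ⊢
      linarith
  have hD0' : ∀ R, R = P₀ ∨ R = Q₀ → D R = 0 := fun R hR => by
    obtain ⟨e, he, -⟩ := hg₁ R hR
    obtain ⟨e', he', -⟩ := hg₂ R hR
    rw [Finsupp.add_apply, hF₁.conorm_apply A he, hF₂.conorm_apply B he', hAp,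
      show B p₂ = 0 from Finsupp.single_eq_of_ne (Ne.symm hP)]
    simp
  let Tal : Set K := {y | ∃ c : k, ∀ R, R = P₀ ∨ R = Q₀ → R.1 (y - algebraMap k K c) ≤ exp (-δ R)}
  have hsmall : ∀ R, R = P₀ ∨ R = Q₀ → exp (-δ R) < (1 : ℤᵐ⁰) := fun R hR =>
    exp_lt_one.mpr (by have := hδ R hR; omega)
  have htal_mul : ∀ {y₁ y₂ : K}, y₁ ∈ Tal → y₂ ∈ Tal → y₁ * y₂ ∈ Tal := fun {y₁ y₂} ⟨c₁, h₁⟩ ⟨c₂, h₂⟩ =>
    ⟨c₁ * c₂, fun R hR => by
      have hy : R.1 y₁ ≤ 1 := by
        rw [show y₁ = (y₁ - algebraMap k K c₁) + algebraMap k K c₁ by ring]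
        exact (R.1.map_add _ _).trans (max_le ((h₁ R hR).trans (hsmall R hR).le) (R.2.1 c₁))
      rw [map_mul, show y₁ * y₂ - algebraMap k K c₁ * algebraMap k K c₂ =
        y₁ * (y₂ - algebraMap k K c₂) + (y₁ - algebraMap k K c₁) * algebraMap k K c₂ by ring]
      refine (R.1.map_add _ _).trans (max_le ?_ ?_)
      · rw [map_mul]; exact (mul_le_mul' hy (h₂ R hR)).trans_eq (one_mul _)
      · rw [map_mul]; exact (mul_le_mul' (h₁ R hR) (R.2.1 c₂)).trans_eq (mul_one _)⟩
  have htal₁ : ∀ w : K₁, p₁.1 w ≤ 1 → algebraMap K₁ K w ∈ Tal := fun w hw =>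
    mem_glued hK₁ hg₁ hw
  have htal₂ : ∀ w : K₂, p₂.1 w ≤ 1 → algebraMap K₂ K w ∈ Tal := fun w hw =>
    mem_glued hK₂ hg₂ hw
  have hAreg : ∀ w ∈ L A, p₁.1 w ≤ 1 := fun w hw => by
    have := hw p₁; rwa [hAp, exp_zero] at this
  have hBreg : ∀ w ∈ L B, p₂.1 w ≤ 1 := fun w hw => by
    have := hw p₂; rwa [show B p₂ = 0 from Finsupp.single_eq_of_ne (Ne.symm hP), exp_zero] at this
  have himg : ∀ p, ((Φ p : L D) : K) ∈ Tal := fun p => by
    obtain ⟨c₁, hc₁⟩ := htal_mul (htal₁ _ (hAreg _ h1A)) (htal₂ _ (hBreg _ p.1.2))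
    obtain ⟨c₂, hc₂⟩ := htal_mul (htal₁ _ (hAreg _ (hshift hu))) (htal₂ _ (hBreg _ p.2.2))
    refine ⟨c₁ + c₂, fun R hR => ?_⟩
    change R.1 (algebraMap K₁ K (1 / z) * algebraMap K₂ K (p.1 : K₂) +
      algebraMap K₁ K (u / z) * algebraMap K₂ K (p.2 : K₂) - algebraMap k K (c₁ + c₂)) ≤ _
    rw [map_add, add_sub_add_comm]
    exact (R.1.map_add _ _).trans (max_le (hc₁ R hR) (hc₂ R hR))
  have hlt : LinearMap.range Φ < ⊤ := lt_top_iff_ne_top.mpr fun htop => by
    have hsub : L (D - Finsupp.single P₀ 1) ≤ L (D - δ) := fun y hy R => by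
      by_cases hR : R = P₀ ∨ R = Q₀
      · have hyD : y ∈ L D := L_mono (sub_le_self _ (Finsupp.single_nonneg.mpr zero_le_one)) hy
        obtain ⟨p, hp⟩ := LinearMap.range_eq_top.mp htop ⟨y, hyD⟩
        obtain ⟨c, hc⟩ := hp ▸ himg p
        have hc0 : c = 0 := by
          by_contra hc0
          have h1 := (hc P₀ (Or.inl rfl)).trans_lt (hsmall P₀ (Or.inl rfl))
          have h2 : P₀.1 y < 1 := by
            refine (hy P₀).trans_lt ?_
            rw [Finsupp.sub_apply, hD0' P₀ (Or.inl rfl), Finsupp.single_eq_same, ← exp_zero, exp_lt_exp]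
            norm_num
          have h3 := (P₀.1.map_sub y (y - algebraMap k K c)).trans_lt (max_lt h2 h1)
          rw [sub_sub_cancel, val_algebraMap P₀ hc0] at h3
          exact lt_irrefl _ h3
        have := hc R hR
        rw [hc0, map_zero, sub_zero] at this
        rwa [Finsupp.sub_apply, hD0' R hR, zero_sub]
      · push Not at hR
        refine (hy R).trans (exp_le_exp.mpr ?_)
        simp [δ, Finsupp.single_eq_of_ne hR.1, Finsupp.single_eq_of_ne hR.2]
    haveI := hF.finiteDimensional_L (D - δ)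
    have h1 : ell (D - Finsupp.single P₀ 1) ≤ ell (D - δ) := Submodule.finrank_mono hsub
    have hd := deg_eq_one_of_isAlgClosed hF
    have r1 := riemann_roch hK hC (D - Finsupp.single P₀ 1)
    have r2 := riemann_roch hK hC (D - δ)
    have e2 : ell (C - (D - δ)) = 0 := hF.ell_eq_zero_of_deg_neg (by
      rw [deg_sub, deg_sub, show δ.deg = 2 by simp only [δ, deg_add, deg_single, hd]; norm_num, deg_canonical hK hC, hDd]
      simp only [m]; push_cast; omega)
    simp only [δ, deg_sub, deg_add, deg_single, hd] at r1 r2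
    simp only [δ] at e2 h1
    omega
  have hle := Submodule.finrank_lt hlt.ne
  rw [LinearMap.finrank_range_of_inj hΦ, Module.finrank_prod] at hle
  unfold ell at hB hD
  unfold ell at hD0
  omega

end Groth.CastelnuovoSeveri
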