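import Groth.Agent.CastelnuovoSeveri.Curves
import Groth.Agent.CastelnuovoSeveri.Strict
import Groth.Agent.S10867

/-!
Two double covers of a curve attaining the Castelnuovo–Severi bound embed it in the product.
-/

set_option linter.style.haveILetI false
set_option linter.unusedSectionVars false
set_option backward.isDefEq.respectTransparency.types false

universe u

open CategoryTheory CategoryTheory.Limits AlgebraicGeometry WithZero
open Groth.Curves1.FrobTwist Groth.CurveBridge Groth.Chow Groth.FunFld1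
open scoped Groth.CurveBridge

namespace Groth.CastelnuovoSeveri

variable {k : Type u} [Field k] [IsAlgClosed k] {X : Scheme.{u}} [X.Over (Spec (CommRingCat.of k))]
  [IsIntegral X] [IsProper (X ↘ Spec (CommRingCat.of k))]
  {P : Scheme.{u}} [P.Over (Spec (CommRingCat.of k))] [IsIntegral P] [IsProper (P ↘ Spec (CommRingCat.of k))]

/-- The map of function fields on germs. -/
theorem fieldMap_stalk (f : X ⟶ P) (e : f (genericPoint X) = genericPoint P) (x : X)
    (a : P.presheaf.stalk (f x)) :
    fieldMap f e (algebraMap (P.presheaf.stalk (f x)) P.functionField a) =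
      algebraMap (X.presheaf.stalk x) X.functionField (f.stalkMap x a) := by
  have h := Scheme.Hom.stalkSpecializes_stalkMap f (genericPoint X) x (genericPoint_specializes x)
  rw [Groth.PropsBasic2.algebraMap_eq_toFF, Groth.PropsBasic2.algebraMap_eq_toFF]
  refine Eq.trans ?_ (ConcreteCategory.congr_hom h a)
  show (P.presheaf.stalkSpecializes _ ≫ P.presheaf.stalkSpecializes _ ≫ f.stalkMap (genericPoint X)).hom a = _
  rw [← Category.assoc, TopCat.Presheaf.stalkSpecializes_comp]

section
variable [Algebra P.functionField X.functionField] [IsScalarTower k P.functionField X.functionField]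

/-- The place below the place of a closed point. -/
theorem exists_isOverWith_placeAt (h : IsRegCurve X) (hP : IsRegCurve P) (f : X ⟶ P)
    (e : f (genericPoint X) = genericPoint P) (halg : algebraMap P.functionField X.functionField = fieldMap f e)
    [FiniteDimensional P.functionField X.functionField] (x : Pt X) (y : Pt P) (hy : f x.1 = y.1) :
    ∃ n : ℕ, 1 ≤ n ∧ FunFld.IsOverWith (placeAt (k := k) h x) (placeAt (k := k) hP y) n ∧
      ((∀ a ∈ IsLocalRing.maximalIdeal (P.presheaf.stalk (f x.1)), f.stalkMap x.1 a ∈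
        IsLocalRing.maximalIdeal (X.presheaf.stalk x.1) ^ 2) → 2 ≤ n) := by
  obtain ⟨y, hyc⟩ := y
  change f x.1 = y at hy
  subst hy
  have hKP := Groth.CurveBridge.isFunctionField (k := k) (X := P) hP.dim
  have hFP := IsFF.of_isFunctionField hKP
  set Q := placeAt (k := k) h x
  obtain ⟨p, hp⟩ := hFP.exists_isOver Q
  have hpy : p = placeAt (k := k) hP ⟨f x.1, hyc⟩ := by
    refine (Groth.FunFld1.Place.eq_of_forall_le_one _ _ fun z hz => ?_).symm
    obtain ⟨a, rfl⟩ := (placeAt_le_one_iff hP _ z).mp hz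
    rw [← over_le_one_iff hp, halg, fieldMap_stalk]
    exact (placeAt_le_one_iff h x _).mpr ⟨_, rfl⟩
  rw [hpy] at hp
  have hn := isOverWith_ramIdx hp
  refine ⟨_, overWith_pos hn, hn, fun hram => ?_⟩
  obtain ⟨t, ht⟩ := exists_val_eq_exp (placeAt (k := k) hP ⟨f x.1, hyc⟩) (-1)
  obtain ⟨a, ha⟩ := (placeAt_le_one_iff hP _ t).mp (by rw [ht, ← exp_zero, exp_le_exp]; norm_num)
  have ht0 : t ≠ 0 := ne_zero_of_val_eq ht
  have ham : a ∈ IsLocalRing.maximalIdeal (P.presheaf.stalk (f x.1)) :=
    (placeAt_lt_one_iff (k := k) hP ⟨f x.1, hyc⟩ a).mp (by rw [ha, ht, exp_lt_one]; norm_num)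
  have hsq : ∀ b ∈ IsLocalRing.maximalIdeal (X.presheaf.stalk x.1) ^ 2,
      Q.1 (algebraMap (X.presheaf.stalk x.1) X.functionField b) ≤ exp (-2) := by
    intro b hb
    rw [pow_two] at hb
    refine Submodule.mul_induction_on hb (fun u hu v hv => ?_) fun u v hu hv => ?_
    · rw [map_mul, map_mul]
      refine (mul_le_mul' (lt_one_iff_le_exp_neg_one.mp ((placeAt_lt_one_iff h x u).mpr hu))
        (lt_one_iff_le_exp_neg_one.mp ((placeAt_lt_one_iff h x v).mpr hv))).trans_eq ?_
      rw [← exp_add]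
      norm_num
    · rw [map_add]
      exact (Q.1.map_add _ _).trans (max_le hu hv)
  have h2 := hsq _ (hram a ham)
  rw [← fieldMap_stalk f e, ha, ← halg, val_le_exp_iff Q ((map_ne_zero _).mpr ht0),
    overWith_ord hn, ord_eq_of_val_eq _ ht] at h2
  omega

end

variable {Q : Scheme.{u}} [Q.Over (Spec (CommRingCat.of k))] [IsIntegral Q] [IsProper (Q ↘ Spec (CommRingCat.of k))]

/-- If the Castelnuovo–Severi bound is attained, the map to the product is a closed immersion. -/
theorem isClosedImmersion_lift_of_genus_eq (h : IsRegCurve X) (hP : IsRegCurve P) (hQ : IsRegCurve Q)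
    (f : X ⟶ P) (hf : f ≫ (P ↘ Spec (CommRingCat.of k)) = X ↘ Spec (CommRingCat.of k))
    [IsFinite f] [Flat f] (hr : ∀ y : P, Scheme.Hom.finrank f y = 2)
    (g : X ⟶ Q) (hg : g ≫ (Q ↘ Spec (CommRingCat.of k)) = X ↘ Spec (CommRingCat.of k))
    [IsFinite g] [Flat g] (hs : ∀ y : Q, Scheme.Hom.finrank g y = 2)
    (hne : ¬ ∃ e : P ≅ Q, e.hom ≫ (Q ↘ Spec (CommRingCat.of k)) = (P ↘ Spec (CommRingCat.of k)) ∧ f ≫ e.hom = g)
    (hgen : 2 * (Curv2.genus k P : ℤ) + 2 * Curv2.genus k Q < Curv2.genus k X) :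
    IsClosedImmersion (pullback.lift f g (hf.trans hg.symm) :
      X ⟶ pullback (P ↘ Spec (CommRingCat.of k)) (Q ↘ Spec (CommRingCat.of k))) := by
  have hK := Groth.CurveBridge.isFunctionField (k := k) (X := X) h.dim
  have hKP := Groth.CurveBridge.isFunctionField (k := k) (X := P) hP.dim
  have hKQ := Groth.CurveBridge.isFunctionField (k := k) (X := Q) hQ.dim
  rw [genus_eq h hK, genus_eq hP hKP, genus_eq hQ hKQ] at hgen
  have ef := FieldRange.map_generic_of_flat f
  have eg := FieldRange.map_generic_of_flat g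
  letI : Algebra P.functionField X.functionField := (fieldMap f ef).toAlgebra
  letI : Algebra Q.functionField X.functionField := (fieldMap g eg).toAlgebra
  haveI : IsScalarTower k P.functionField X.functionField :=
    IsScalarTower.of_algebraMap_eq fun c => (fieldMap_algebraMap' f ef hf c).symm
  haveI : IsScalarTower k Q.functionField X.functionField :=
    IsScalarTower.of_algebraMap_eq fun c => (fieldMap_algebraMap' g eg hg c).symm
  have h₁ : Module.finrank P.functionField X.functionField = 2 := by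
    rw [← FieldRange.finrank_fieldRange f hr ef]
    exact Algebra.finrank_eq_of_equiv_equiv (RingEquiv.ofBijective (fieldMap f ef).rangeRestrictField
      (fieldMap f ef).rangeRestrictField_bijective) (RingEquiv.refl _) rfl
  have h₂ : Module.finrank Q.functionField X.functionField = 2 := by
    rw [← FieldRange.finrank_fieldRange g hs eg]
    exact Algebra.finrank_eq_of_equiv_equiv (RingEquiv.ofBijective (fieldMap g eg).rangeRestrictField
      (fieldMap g eg).rangeRestrictField_bijective) (RingEquiv.refl _) rfl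
  haveI : FiniteDimensional P.functionField X.functionField := Module.finite_of_finrank_pos (by omega)
  haveI : FiniteDimensional Q.functionField X.functionField := Module.finite_of_finrank_pos (by omega)
  set ℓ : X ⟶ pullback (P ↘ Spec (CommRingCat.of k)) (Q ↘ Spec (CommRingCat.of k)) :=
    pullback.lift f g (hf.trans hg.symm) with hℓ
  have hfst : ℓ ≫ pullback.fst _ _ = f := pullback.lift_fst _ _ _
  have hsnd : ℓ ≫ pullback.snd _ _ = g := pullback.lift_snd _ _ _
  let q : pullback (P ↘ Spec (CommRingCat.of k)) (Q ↘ Spec (CommRingCat.of k)) ⟶ Spec (CommRingCat.of k) :=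
    pullback.fst _ _ ≫ (P ↘ Spec (CommRingCat.of k))
  have hover : ℓ ≫ q = X ↘ Spec (CommRingCat.of k) := by rw [← Category.assoc, hfst, hf]
  haveI : IsProper (ℓ ≫ q) := hover ▸ inferInstance
  haveI : IsProper ℓ := IsProper.of_comp ℓ q
  have hclosed : ∀ (x : Pt X), IsClosed ({f x.1} : Set P) ∧ IsClosed ({g x.1} : Set Q) := fun x => by
    constructor <;> rw [← Set.image_singleton]
    · exact f.isClosedMap _ x.2
    · exact g.isClosedMap _ x.2
  have hbad : ∀ (x y : Pt X), f x.1 = f y.1 → g x.1 = g y.1 →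
      (x ≠ y ∨ ((∀ a ∈ IsLocalRing.maximalIdeal (P.presheaf.stalk (f x.1)), f.stalkMap x.1 a ∈
          IsLocalRing.maximalIdeal (X.presheaf.stalk x.1) ^ 2) ∧
        ∀ a ∈ IsLocalRing.maximalIdeal (Q.presheaf.stalk (g x.1)), g.stalkMap x.1 a ∈
          IsLocalRing.maximalIdeal (X.presheaf.stalk x.1) ^ 2)) → False := by
    intro x y hfxy hgxy hcase
    obtain ⟨a, ha1, ha, har⟩ := exists_isOverWith_placeAt (k := k) h hP f ef rfl x ⟨f x.1, (hclosed x).1⟩ rfl
    obtain ⟨b, hb1, hb, -⟩ := exists_isOverWith_placeAt (k := k) h hP f ef rfl y ⟨f x.1, (hclosed x).1⟩ hfxy.symm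
    obtain ⟨c, hc1, hc, hcr⟩ := exists_isOverWith_placeAt (k := k) h hQ g eg rfl x ⟨g x.1, (hclosed x).2⟩ rfl
    obtain ⟨d, hd1, hd, -⟩ := exists_isOverWith_placeAt (k := k) h hQ g eg rfl y ⟨g x.1, (hclosed x).2⟩ hgxy.symm
    have hrng : (algebraMap P.functionField X.functionField).range ≠
        (algebraMap Q.functionField X.functionField).range := fun e =>
      hne (exists_iso_of_range_eq hP hQ f hf g hg ef eg e)
    refine not_lt.mpr (genus_le_two_two_of_glued hK hKP hKQ h₁ h₂ hrng (placeAt (k := k) h x)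
      (placeAt (k := k) h y) (placeAt (k := k) hP ⟨f x.1, (hclosed x).1⟩)
      (placeAt (k := k) hQ ⟨g x.1, (hclosed x).2⟩) ?_ ?_) hgen
    all_goals
      intro R hR
      by_cases hxy : x = y
      · subst hxy
        obtain ⟨h2a, h2c⟩ := (hcase.resolve_left (not_not.mpr rfl))
        obtain rfl : R = placeAt (k := k) h x := hR.elim id id
        first | refine ⟨a, ha, ?_⟩ | refine ⟨c, hc, ?_⟩
        simp only [Finsupp.add_apply, Finsupp.single_eq_same]
        have := har h2a
        have := hcr h2c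
        omega
      · have hne' : placeAt (k := k) h x ≠ placeAt (k := k) h y := fun e => hxy (placeAt_injective h e)
        rcases hR with rfl | rfl
        · first | refine ⟨a, ha, ?_⟩ | refine ⟨c, hc, ?_⟩
          all_goals (simp only [Finsupp.add_apply, Finsupp.single_eq_same, Finsupp.single_eq_of_ne hne']; omega)
        · first | refine ⟨b, hb, ?_⟩ | refine ⟨d, hd, ?_⟩
          all_goals (simp only [Finsupp.add_apply, Finsupp.single_eq_same, Finsupp.single_eq_of_ne hne'.symm]; omega)
  refine Groth.Agent.S10867.result k ℓ q ?_ ?_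
  · intro x hx y hy hxy
    by_contra hne'
    have hxy' : ℓ x = ℓ y := hxy
    refine hbad ⟨x, hx⟩ ⟨y, hy⟩ ?_ ?_ (Or.inl fun e => hne' (congrArg Subtype.val e))
    · rw [← hfst, Scheme.Hom.comp_apply, Scheme.Hom.comp_apply, hxy']
    · rw [← hsnd, Scheme.Hom.comp_apply, Scheme.Hom.comp_apply, hxy']
  · intro x hx
    set I := Ideal.map (ℓ.stalkMap x).hom (IsLocalRing.maximalIdeal _) ⊔
      IsLocalRing.maximalIdeal (X.presheaf.stalk x) ^ 2 with hI
    refine le_antisymm (sup_le (Ideal.map_le_iff_le_comap.mpr fun a ha => ?_)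
      (Ideal.pow_le_self two_ne_zero)) ?_
    · rw [Ideal.mem_comap, IsLocalRing.mem_maximalIdeal]
      exact map_nonunit (ℓ.stalkMap x).hom a ha
    haveI := h.dvr (k := k) ⟨x, hx⟩
    set 𝔪 := IsLocalRing.maximalIdeal (X.presheaf.stalk x)
    have hgen' : ∀ b ∈ 𝔪, b ∉ 𝔪 ^ 2 → 𝔪 = Ideal.span {b} := fun b hb hb2 => by
      obtain ⟨ϖ, hϖ⟩ := IsDiscreteValuationRing.exists_irreducible (X.presheaf.stalk x)
      have hϖm : 𝔪 = Ideal.span {ϖ} := hϖ.maximalIdeal_eq
      rw [hϖm] at hb
      obtain ⟨w, rfl⟩ := Ideal.mem_span_singleton.mp hb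
      rw [hϖm, Ideal.span_singleton_mul_right_unit]
      by_contra hnu
      refine hb2 ?_
      rw [pow_two]
      exact Ideal.mul_mem_mul (hϖm ▸ Ideal.mem_span_singleton_self ϖ) ((IsLocalRing.mem_maximalIdeal w).mpr hnu)
    have hside : ∀ {Z : Scheme.{u}} (π : pullback (P ↘ Spec (CommRingCat.of k)) (Q ↘ Spec (CommRingCat.of k)) ⟶ Z)
        (φ : X ⟶ Z), ℓ ≫ π = φ →
        (¬ ∀ a ∈ IsLocalRing.maximalIdeal (Z.presheaf.stalk (φ x)), φ.stalkMap x a ∈ 𝔪 ^ 2) → 𝔪 ≤ I := by
      intro Z π φ he hnot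
      subst he
      push Not at hnot
      obtain ⟨a, ha, ha2⟩ := hnot
      rw [hgen' _ (map_nonunit ((ℓ ≫ π).stalkMap x).hom a ha) ha2, Ideal.span_le, Set.singleton_subset_iff]
      refine Ideal.mem_sup_left ?_
      rw [Scheme.Hom.stalkMap_comp]
      exact Ideal.mem_map_of_mem _ (map_nonunit (π.stalkMap (ℓ x)).hom a ha)
    by_cases hf2 : ∀ a ∈ IsLocalRing.maximalIdeal (P.presheaf.stalk (f x)), f.stalkMap x a ∈ 𝔪 ^ 2
    · exact hside _ g hsnd fun hg2 => hbad ⟨x, hx⟩ ⟨x, hx⟩ rfl rfl (Or.inr ⟨hf2, hg2⟩)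
    · exact hside _ f hfst hf2

end Groth.CastelnuovoSeveri
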